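import Groth.Agent.FlatLoc6.Rk
import Groth.Agent.S13782

/-! Geometrically regular algebras of finite type over a field are smooth. -/

set_option autoImplicit false
universe u

namespace Groth.Agent.GeomRegSm

open TensorProduct IsLocalRing

theorem regular_of_generated (R S : Type u) [CommRing R] [CommRing S] [IsNoetherianRing S] [Algebra R S]
    [Module.Flat R S] (q : Ideal S) [q.IsPrime] (p : Ideal R) [p.IsPrime] [q.LiesOver p]
    (hgen : p.map (algebraMap R S) = q) [IsRegularLocalRing (Localization.AtPrime p)] :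
    IsRegularLocalRing (Localization.AtPrime q) := by
  letI := Localization.AtPrime.algebraOfLiesOver p q
  haveI : IsLocalHom (algebraMap (Localization.AtPrime p) (Localization.AtPrime q)) :=
    FlatLoc6.isLocalHom_atPrime p q
  haveI := FlatLoc6.flat_atPrime S p q
  haveI : IsNoetherianRing (Localization.AtPrime q) := IsLocalization.isNoetherianRing q.primeCompl _ inferInstance
  refine FlatLoc6.isRegularLocalRing_of_flat_fibre (A := Localization.AtPrime p) ?_
  have e : (maximalIdeal (Localization.AtPrime p)).map (algebraMap (Localization.AtPrime p) (Localization.AtPrime q)) =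
      maximalIdeal (Localization.AtPrime q) := by
    rw [← Localization.AtPrime.map_eq_maximalIdeal, ← Localization.AtPrime.map_eq_maximalIdeal, Ideal.map_map,
      ← IsScalarTower.algebraMap_eq, IsScalarTower.algebraMap_eq R S, ← Ideal.map_map, hgen]
  let L := Localization.AtPrime q ⧸ maximalIdeal (Localization.AtPrime q)
  haveI : IsRegularLocalRing (Localization.AtPrime q ⧸ maximalIdeal (Localization.AtPrime q)) :=
    inferInstanceAs (IsRegularLocalRing (ResidueField (Localization.AtPrime q)))
  exact IsRegularLocalRing.of_ringEquiv (Ideal.quotEquivOfEq e.symm)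

theorem flat_includeRight (F K R : Type u) [Field F] [CommRing K] [Algebra F K] [CommRing R] [Algebra F R] :
    ((Algebra.TensorProduct.includeRight : R →ₐ[F] K ⊗[F] R) : R →+* K ⊗[F] R).Flat := by
  have e : ((Algebra.TensorProduct.includeRight : R →ₐ[F] K ⊗[F] R) : R →+* K ⊗[F] R) =
      (Algebra.TensorProduct.comm F R K).toRingEquiv.toRingHom.comp (algebraMap R (R ⊗[F] K)) :=
    RingHom.ext fun r => by simp
  rw [e]
  exact RingHom.Flat.comp (RingHom.flat_algebraMap_iff.2 inferInstance)
    (RingHom.Flat.of_bijective (Algebra.TensorProduct.comm F R K).toRingEquiv.bijective)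

theorem exists_flat_map (k F K A : Type u) [Field k] [Field F] [Field K] [Algebra k F] [Algebra k K] [Algebra F K]
    [IsScalarTower k F K] [CommRing A] [Algebra k A] :
    ∃ φ : F ⊗[k] A →+* K ⊗[k] A, φ.Flat ∧ ∀ (b : F) (a : A), φ (b ⊗ₜ a) = algebraMap F K b ⊗ₜ a := by
  let e : K ⊗[F] (F ⊗[k] A) ≃+* K ⊗[k] A :=
    (Algebra.TensorProduct.cancelBaseChange k F F K A).toRingEquiv
  refine ⟨e.toRingHom.comp ((Algebra.TensorProduct.includeRight : F ⊗[k] A →ₐ[F] K ⊗[F] (F ⊗[k] A)) :
      F ⊗[k] A →+* K ⊗[F] (F ⊗[k] A)),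
    RingHom.Flat.comp (flat_includeRight _ _ _) (RingHom.Flat.of_bijective e.bijective), fun b a => ?_⟩
  simp [e, Algebra.smul_def]

theorem regular_of_generated' {R S : Type u} [CommRing R] [CommRing S] [IsNoetherianRing S] (φ : R →+* S)
    (hflat : φ.Flat) (q : Ideal S) [q.IsPrime] (hgen : (q.comap φ).map φ = q) [IsRegularRing R] :
    IsRegularLocalRing (Localization.AtPrime q) := by
  letI := φ.toAlgebra
  haveI : Module.Flat R S := hflat
  haveI : q.LiesOver (q.comap φ) := ⟨rfl⟩
  haveI : IsRegularLocalRing (Localization.AtPrime (q.comap φ)) := IsRegularRing.isRegularLocalRing_localization _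
  exact regular_of_generated R S q (q.comap φ) hgen

theorem smooth_of_geometricallyRegular (k : Type u) [Field k] (A : Type u) [CommRing A] [Algebra k A]
    [Algebra.FiniteType k A] (h : CAlg.IsGeometricallyRegular k A) : Algebra.Smooth k A := by
  refine S13782.smooth_of_regular_baseChange k A fun q _ => ?_
  classical
  haveI : IsNoetherianRing (AlgebraicClosure k ⊗[k] A) :=
    Algebra.FiniteType.isNoetherianRing (AlgebraicClosure k) _
  obtain ⟨gs, hgs⟩ := (IsNoetherian.noetherian q)
  choose c hc using fun x : AlgebraicClosure k ⊗[k] A => TensorProduct.exists_finset x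
  let F : IntermediateField k (AlgebraicClosure k) :=
    IntermediateField.adjoin k ((gs.biUnion fun x => (c x).image Prod.fst : Finset (AlgebraicClosure k)) : Set (AlgebraicClosure k))
  haveI : FiniteDimensional k F := IntermediateField.finiteDimensional_adjoin fun x _ =>
    (Algebra.IsIntegral.isIntegral x)
  obtain ⟨φ, hflat, hφ⟩ := exists_flat_map k F (AlgebraicClosure k) A
  haveI : IsRegularRing (F ⊗[k] A) := h F inferInstance
  refine regular_of_generated' φ hflat q ?_
  refine le_antisymm Ideal.map_comap_le ?_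
  rw [← hgs]
  refine Ideal.span_le.2 fun x hx => ?_
  let x' : F ⊗[k] A := ∑ i ∈ (c x).attach,
    (⟨i.1.1, IntermediateField.subset_adjoin k _ (Finset.mem_biUnion.2 ⟨x, hx, Finset.mem_image_of_mem _ i.2⟩)⟩ : F) ⊗ₜ i.1.2
  have hx' : φ x' = x := by
    conv_rhs => rw [hc x]
    simp only [x', map_sum, hφ]
    exact Finset.sum_attach (c x) (fun i => i.1 ⊗ₜ[k] i.2)
  rw [← hx']
  refine Ideal.mem_map_of_mem _ ?_
  show φ x' ∈ Submodule.span _ _
  rw [hx']
  exact Ideal.subset_span hx

end Groth.Agent.GeomRegSm
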